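import Groth.Agent.S15046
import Groth.Agent.Quiet96.BaseChange
import Groth.Agent.SpPts86.SliceFlat
import Groth.Agent.EGA4Alg4.RegPow
import Mathlib.RingTheory.Regular.Flat
import Mathlib.RingTheory.RingHom.FaithfullyFlat

/-! Extraction of `p`-th roots on a complete intersection. -/

set_option autoImplicit false

universe u

open CategoryTheory AlgebraicGeometry RingTheory.Sequence MvPolynomial

namespace Groth.Agent.QuietPow31

theorem ff_quotientMap {O B : Type u} [CommRing O] [CommRing B] (φ : O →+* B) (hφ : φ.FaithfullyFlat)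
    (I : Ideal O) : (Ideal.quotientMap (I.map φ) φ Ideal.le_comap_map).FaithfullyFlat := by
  letI := φ.toAlgebra
  letI : Algebra (O ⧸ I) (B ⧸ I.map φ) := (Ideal.quotientMap (I.map φ) φ Ideal.le_comap_map).toAlgebra
  haveI : IsScalarTower O (O ⧸ I) (B ⧸ I.map φ) := .of_algebraMap_eq fun x => rfl
  haveI : IsScalarTower O B (B ⧸ I.map φ) := .of_algebraMap_eq fun x => rfl
  haveI := ((CommRingCat.isPushout_iff_isPushout (R := O) (R' := O ⧸ I) (S := B) (S' := B ⧸ I.map φ)).1
    (SpPts86.isPushout_quotient (CommRingCat.ofHom φ) I)).symm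
  exact RingHom.FaithfullyFlat.isStableUnderBaseChange O B (O ⧸ I) (B ⧸ I.map φ) hφ

theorem isPthRoot_quotientMap (p : ℕ) (O : Type u) [CommRing O] (φ : O →+* O) (I : Ideal O)
    (h : Quiet.IsPthRoot p (Spec.map (CommRingCat.ofHom φ))) :
    Quiet.IsPthRoot p (Spec.map (CommRingCat.ofHom (Ideal.quotientMap (I.map φ) φ Ideal.le_comap_map))) :=
  Quiet96.isPthRoot_baseChange p
    (isPullback_SpecMap_of_isPushout _ _ _ _ (SpPts86.isPushout_quotient (CommRingCat.ofHom φ) I)).flip h

theorem isRegular_map {O B : Type u} [CommRing O] [CommRing B] (φ : O →+* B) (hφ : φ.FaithfullyFlat)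
    {rs : List O} (h : IsRegular O rs) : IsRegular B (rs.map φ) := by
  letI := φ.toAlgebra
  haveI : Module.FaithfullyFlat O B := RingHom.faithfullyFlat_algebraMap_iff.1 hφ
  exact IsRegular.of_faithfullyFlat h

/-- The powers of the parameters followed by the equations form a regular sequence. -/
theorem isRegular_append (p : ℕ) (hp : 1 ≤ p) (A : Type u) [CommRing A] (n : ℕ) (t : Fin n → A)
    (ht : IsWeaklyRegular A (List.ofFn t)) (r m : ℕ) (v : Fin m → MvPolynomial (Fin r) A)
    (hv : IsRegular (MvPolynomial (Fin r) A ⧸ Ideal.span (Set.range fun i => C (t i) ^ p))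
      (List.ofFn fun j => Ideal.Quotient.mk (Ideal.span (Set.range fun i => C (t i) ^ p)) (v j))) :
    IsRegular (MvPolynomial (Fin r) A) (List.ofFn (fun i => C (t i) ^ p) ++ List.ofFn v) := by
  set l := List.ofFn (fun i => (C (t i) : (MvPolynomial (Fin r) A)) ^ p)
  set J := Ideal.span (Set.range fun i => (C (t i) : (MvPolynomial (Fin r) A)) ^ p) with hJ
  have hl : IsWeaklyRegular (MvPolynomial (Fin r) A) l := by
    have h := EGA4Alg4.isWeaklyRegular_pow (List.ofFn fun i => (C (t i) : (MvPolynomial (Fin r) A))) (M := (MvPolynomial (Fin r) A)) (List.replicate n p)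
      (by simp) (fun k hk => by rw [List.eq_of_mem_replicate hk]; exact hp) (by
        have h := IsWeaklyRegular.of_flat (S := (MvPolynomial (Fin r) A)) ht
        rwa [List.map_ofFn] at h)
    convert h using 1
    refine List.ext_getElem (by simp [l]) fun i h1 h2 => ?_
    simp [l]
  have hlJ : Ideal.ofList l = J := by
    rw [hJ]
    exact congrArg Ideal.span (Set.ext fun x => by simp [l, List.mem_ofFn])
  have hmk : (List.ofFn fun j => Ideal.Quotient.mk J (v j)) = (List.ofFn v).map (algebraMap (MvPolynomial (Fin r) A) ((MvPolynomial (Fin r) A) ⧸ J)) := by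
    rw [List.map_ofFn]; rfl
  rw [hmk] at hv
  refine ⟨(isWeaklyRegular_append_iff (MvPolynomial (Fin r) A) l (List.ofFn v)).2 ⟨hl, ?_⟩, fun htop => ?_⟩
  · refine ((Submodule.quotEquivOfEq _ _ ?_).isWeaklyRegular_congr _).2
      ((isWeaklyRegular_map_algebraMap_iff ((MvPolynomial (Fin r) A) ⧸ J) ((MvPolynomial (Fin r) A) ⧸ J) (List.ofFn v)).1 hv.1)
    rw [smul_eq_mul, Ideal.mul_top, hlJ]
  · refine hv.2 ?_
    rw [smul_eq_mul, Ideal.mul_top] at htop ⊢
    rw [Ideal.ofList_append, hlJ] at htop
    refine (eq_top_iff.2 ?_).symm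
    rintro x -
    obtain ⟨x, rfl⟩ := Ideal.Quotient.mk_surjective x
    rw [← Ideal.map_ofList]
    obtain ⟨a, ha, b, hb, rfl⟩ := Submodule.mem_sup.1 (htop.le (Submodule.mem_top (x := x)))
    rw [map_add, Ideal.Quotient.eq_zero_iff_mem.2 ha, zero_add]
    exact Ideal.mem_map_of_mem _ hb

end Groth.Agent.QuietPow31
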